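import Groth.Agent.DAlg.FlatAmp
import Groth.Agent.DAlg.KFlatOps
import Groth.Agent.DAlg.LTensorCxIso
import Groth.Agent.Misc8.FibreSquare
import Mathlib.Algebra.Homology.DerivedCategory.Fractions

/-!
Tor amplitude in `[a, ∞)` for unbounded complexes of modules.
-/

set_option autoImplicit false
set_option linter.style.haveILetI false

universe u

open CategoryTheory CategoryTheory.Limits HomologicalComplex MonoidalCategory

attribute [local instance] HasDerivedCategory.standard

namespace Groth.Agent.TorAmpGE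

open Groth.DAlg Groth.DerivedCoh Groth.DAlg.KFlatMod FlatCxBase

variable {R : Type u} [CommRing R]

local notation "up" => ComplexShape.up ℤ

/-- Tensoring on the left with a K-flat complex respects isomorphisms of the derived category. -/
theorem tot_iso_of_iso {X : DRing.Cx R} (hX : IsKFlatCx R X) {E K : DRing.Cx R}
    (e : DRing.toD E ≅ DRing.toD K) :
    Nonempty (DRing.toD (KFlat.tot (T R) X E) ≅ DRing.toD (KFlat.tot (T R) X K)) := by
  obtain ⟨W, s, hs, g, hg⟩ := DerivedCategory.right_fac e.hom
  have : IsIso (DerivedCategory.Q.map g) := by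
    have : DerivedCategory.Q.map g = DerivedCategory.Q.map s ≫ e.hom := by simp [hg]
    rw [this]
    exact (asIso (DerivedCategory.Q.map s) ≪≫ e).isIso_hom
  have : QuasiIso g := (DerivedCategory.isIso_Q_map_iff_quasiIso _ _).1 this
  have : QuasiIso s := (DerivedCategory.isIso_Q_map_iff_quasiIso _ _).1 hs
  have h := isKFlat_flip (isKFlatCx_iff.1 hX)
  have hs' : IsIso (DerivedCategory.Q.map ((KFlat.totR (T R) X).map s)) :=
    (DerivedCategory.isIso_Q_map_iff_quasiIso _ _).2 (KFlat.quasiIso_totR (T R) h s)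
  have hg' : IsIso (DerivedCategory.Q.map ((KFlat.totR (T R) X).map g)) :=
    (DerivedCategory.isIso_Q_map_iff_quasiIso _ _).2 (KFlat.quasiIso_totR (T R) h g)
  exact ⟨(@asIso _ _ _ _ _ hs').symm ≪≫ @asIso _ _ _ _ _ hg'⟩

/-- `M ⊗ᴸ K` is computed by a K-flat representative of `K`. -/
theorem lTensorCx_single_iso (K : DRing.Cx R) [DRing.HasLTensorCx R K] (M : ModuleCat.{u} R)
    {E : DRing.Cx R} (hE : IsKFlatCx R E) (e : DRing.toD E ≅ DRing.toD K) :
    Nonempty ((DRing.LTensorCx R K).obj
        (DRing.toD ((CochainComplex.singleFunctor (ModuleCat.{u} R) 0).obj M)) ≅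
      DRing.toD (DRing.tensorCx E M)) := by
  let X := (CochainComplex.singleFunctor (ModuleCat.{u} R) 0).obj M
  have := resAug_quasiIso (R := R) X
  have hX : IsKFlatCx R ((resFunctor R).obj X) := res_isKFlat X
  have hε : IsIso (DerivedCategory.Q.map ((resAug R).app X)) :=
    (DerivedCategory.isIso_Q_map_iff_quasiIso _ _).2 inferInstance
  have hq : IsIso (DerivedCategory.Q.map ((KFlat.totL (T R) E).map ((resAug R).app X))) :=
    (DerivedCategory.isIso_Q_map_iff_quasiIso _ _).2
      ((isKFlatCx_iff.1 hE).quasiIso_totL ((resAug R).app X))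
  obtain ⟨i⟩ := tot_iso_of_iso hX e.symm
  exact ⟨(DRing.LTensorCx R K).mapIso (@asIso _ _ _ _ _ hε).symm ≪≫ lTensorCxIso K _ hX ≪≫ i ≪≫
    @asIso _ _ _ _ _ hq ≪≫
    DerivedCategory.Q.mapIso (KFlat.totSingleIso (T R) M E ≪≫ leftTensorIso M E)⟩

/-- The canonical projection to the truncation is an isomorphism above the bound. -/
lemma isIso_πTruncGE_f (E : DRing.Cx R) {a i : ℤ} (h : a < i) : IsIso ((E.πTruncGE a).f i) := by
  have hi : (ComplexShape.embeddingUpIntGE a).f (i - a).toNat = i := by simp; omega
  have hk : ¬ (ComplexShape.embeddingUpIntGE a).BoundaryGE (i - a).toNat := by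
    rw [ComplexShape.boundaryGE_embeddingUpIntGE_iff]
    omega
  have := E.isIso_restrictionToTruncGE' (ComplexShape.embeddingUpIntGE a) (i - a).toNat hk
  exact ((ComplexShape.embeddingUpIntGE a).isIso_liftExtend_f_iff _
    (E.restrictionToTruncGE'_hasLift (ComplexShape.embeddingUpIntGE a)) hi).2 this

/-- Truncations of K-flat complexes with flat terms and flat terms of the truncation are K-flat. -/
theorem isKFlat_truncGE (E : DRing.Cx R) (a : ℤ) (hE : IsKFlatCx R E)
    (hf : DRing.TermwiseFlat E) (hf' : DRing.TermwiseFlat (E.truncGE a)) :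
    IsKFlatCx R (E.truncGE a) := by
  let S : ShortComplex (DRing.Cx R) :=
    ShortComplex.mk (kernel.ι (E.πTruncGE a)) (E.πTruncGE a) (kernel.condition _)
  have : Epi (E.πTruncGE a) :=
    inferInstanceAs (Epi (HomologicalComplex.πTruncGE E (ComplexShape.embeddingUpIntGE a)))
  have hS : S.ShortExact := { exact := ShortComplex.exact_kernel (E.πTruncGE a) }
  have hz : DRing.VanishesAbove S.X₁ a := fun i hi => by
    have hi' := hS.map_of_exact (eval (ModuleCat.{u} R) up i)
    have := isIso_πTruncGE_f E hi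
    have h0 : (S.map (eval (ModuleCat.{u} R) up i)).f = 0 := by
      have h := (S.map (eval (ModuleCat.{u} R) up i)).zero
      exact (cancel_mono ((E.πTruncGE a).f i)).1 (h.trans zero_comp.symm)
    exact @IsZero.of_mono_eq_zero _ _ _ _ _ _ hi'.mono_f h0
  have hk : DRing.TermwiseFlat S.X₁ := fun i => by
    have hi' := hS.map_of_exact (eval (ModuleCat.{u} R) up i)
    have : Module.Flat R (S.map (eval (ModuleCat.{u} R) up i)).X₂ := hf i
    have : Module.Flat R (S.map (eval (ModuleCat.{u} R) up i)).X₃ := hf' i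
    exact Groth.Misc8.FibreSquare.flat_of_shortExact
      (S.map (eval (ModuleCat.{u} R) up i)).f.hom (S.map (eval (ModuleCat.{u} R) up i)).g.hom
      hi'.moduleCat_injective_f hi'.moduleCat_surjective_g
      ((ShortComplex.ShortExact.moduleCat_exact_iff_function_exact _).1 hi'.exact)
  exact (two_of_three_shortExact S hS hf').1 (isKFlatCx_of_flat S.X₁ hz hk) hE

/-- Tor amplitude at least `a` is equivalent to a K-flat flat representative in degrees at least
`a`. -/
theorem main (a : ℤ) (K : DRing.Cx R) [DRing.HasLTensorCx R K] :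
    (∀ (M : ModuleCat.{u} R) (i : ℤ), i < a →
        Subsingleton (Dual.HD R ((DRing.LTensorCx R K).obj
          (DRing.toD ((CochainComplex.singleFunctor (ModuleCat.{u} R) 0).obj M))) i)) ↔
      ∃ E : DRing.Cx R, IsKFlatCx R E ∧ DRing.TermwiseFlat E ∧ (∀ i : ℤ, i < a → IsZero (E.X i)) ∧
        Nonempty (DRing.toD E ≅ DRing.toD K) := by
  constructor
  · intro h
    let E := (resFunctor R).obj K
    have := resAug_quasiIso (R := R) K
    have hiso : IsIso (DerivedCategory.Q.map ((resAug R).app K)) :=
      (DerivedCategory.isIso_Q_map_iff_quasiIso _ _).2 inferInstance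
    let e : DRing.toD E ≅ DRing.toD K := @asIso _ _ _ _ _ hiso
    have hf : DRing.TermwiseFlat E := res_flat K
    have hk : IsKFlatCx R E := res_isKFlat K
    have hz : ∀ (M : ModuleCat.{u} R) (i : ℤ), i < a →
        IsZero ((DRing.tensorCx E M).homology i) := fun M i hi => by
      obtain ⟨t⟩ := lTensorCx_single_iso K M hk e
      have := h M i hi
      exact isZero_homology_of_subsingleton ((HDCongr t i).symm.toEquiv.subsingleton)
    have : ∀ i, Module.Flat R (E.X i) := hf
    have hQ : Module.Flat R (Coker E (a - 1) a) :=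
      flat_coker_of_isZero E a fun M => hz M (a - 1) (by omega)
    let Φ : ObjectProperty (ModuleCat.{u} R) := fun X => Module.Flat R X
    have : Φ.IsClosedUnderIsomorphisms :=
      ⟨fun {X Y} e (hX : Module.Flat R X) => Module.Flat.of_linearEquiv e.toLinearEquiv.symm⟩
    have hf' : DRing.TermwiseFlat (E.truncGE a) := fun i =>
      truncGE_X_of_prop Φ E a (fun X hX =>
        haveI := ModuleCat.subsingleton_of_isZero hX; show Module.Flat R X from inferInstance)
        (fun i _ => hf i) hQ i
    obtain ⟨t⟩ := nonempty_truncGE_iso (P := E) (a := a)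
      fun i hi => isZero_homology_of_tensor fun M => hz M i hi
    exact ⟨E.truncGE a, isKFlat_truncGE E a hk hf hf', hf',
      fun i hi => (E.truncGE a).isZero_of_isStrictlyGE a i hi, ⟨t ≪≫ e⟩⟩
  · rintro ⟨E, hk, -, hz, ⟨e⟩⟩ M i hi
    obtain ⟨t⟩ := lTensorCx_single_iso K M hk e
    exact subsingleton_HD_of_iso t.symm (isZero_tensorCx_X (hz i hi) M)

end Groth.Agent.TorAmpGE
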